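import Groth.Agent.SyntRetractH2.Dim
import Groth.Agent.Synt15.Syntomic
import Groth.Agent.Synt15.Away
import Groth.Agent.Synt15.Local
import Groth.Agent.CAlgH.SmoothRetract

/-! A syntomic algebra is a smooth retract of a relative global complete intersection. -/

set_option autoImplicit false

universe u

open MvPolynomial Groth.Agent.EGA43.FibDepth Groth.Agent.CAlgH.SmoothRetract

noncomputable section

namespace Groth.Agent.SyntRetractH2

variable {R : Type u} [CommRing R] {n : ℕ}

set_option maxHeartbeats 800000 in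
/-- The presentation over the symmetric algebra of the conormal module. -/
theorem exists_data (I : Ideal (MvPolynomial (Fin n) R)) (hI : I.FG)
    (hS : Synt.IsSyntomic R (MvPolynomial (Fin n) R ⧸ I)) :
    ∃ (m : ℕ) (C' : Type u) (_ : CommRing C') (_ : Algebra R C') (_ : Algebra (MvPolynomial (Fin n) R ⧸ I) C')
      (_ : IsScalarTower R (MvPolynomial (Fin n) R ⧸ I) C'),
      Algebra.Smooth (MvPolynomial (Fin n) R ⧸ I) C' ∧
      ∃ (ρ : C' →ₐ[MvPolynomial (Fin n) R ⧸ I] MvPolynomial (Fin n) R ⧸ I)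
        (π : MvPolynomial (Fin (m + n)) R →ₐ[R] C') (F : Fin m → MvPolynomial (Fin (m + n)) R)
        (h : MvPolynomial (Fin (m + n)) R), Function.Surjective π ∧ (∀ i, π (F i) = 0) ∧
          (∀ w, π w = 0 → h * w ∈ Ideal.span (Set.range F)) ∧ ρ (π h) = 1 ∧
          ∀ q : PrimeSpectrum C', trd R q ≤ n := by
  classical
  obtain ⟨m, f, hf⟩ := Submodule.fg_iff_exists_fin_generating_family.1 hI
  change Ideal.span (Set.range f) = I at hf
  have hfI : ∀ i, f i ∈ I := fun i => hf.le (Ideal.subset_span ⟨i, rfl⟩)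
  let A := MvPolynomial (Fin n) R ⧸ I
  let mkI : MvPolynomial (Fin n) R →+* A := Ideal.Quotient.mk I
  haveI : Algebra.Smooth R (MvPolynomial (Fin n) R) := ⟨inferInstance, inferInstance⟩
  obtain ⟨hfin, hproj⟩ := Synt15.projective_cotangent I hI hS
  let fb : Fin m → I.Cotangent := fun i => I.toCotangent ⟨f i, hfI i⟩
  let π₀ : (Fin m → A) →ₗ[A] I.Cotangent := Fintype.linearCombination A fb
  have hπ₀ : ∀ c : Fin m → MvPolynomial (Fin n) R,
      π₀ (fun i => mkI (c i)) = I.toCotangent ⟨∑ i, c i * f i, Ideal.sum_mem _ fun i _ => I.mul_mem_left _ (hfI i)⟩ := by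
    intro c
    rw [Fintype.linearCombination_apply]
    rw [show (⟨∑ i, c i * f i, Ideal.sum_mem _ fun i _ => I.mul_mem_left _ (hfI i)⟩ : I) =
      ∑ i, c i • (⟨f i, hfI i⟩ : I) from Subtype.ext (by simp [Submodule.coe_sum, smul_eq_mul]), map_sum]
    refine Finset.sum_congr rfl fun i _ => ?_
    rw [map_smul]
    exact algebraMap_smul A (c i) (fb i)
  have hsurj₀ : Function.Surjective π₀ := fun x => by
    obtain ⟨⟨x, hx⟩, rfl⟩ := I.toCotangent_surjective x
    obtain ⟨c, hc⟩ := Ideal.mem_span_range_iff_exists_fun.1 (hf.ge hx)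
    exact ⟨fun i => mkI (c i), (hπ₀ c).trans (congrArg I.toCotangent (Subtype.ext hc))⟩
  obtain ⟨σ, hσ⟩ := Module.projective_lifting_property π₀ LinearMap.id hsurj₀
  have hπσ : ∀ x, π₀ (σ x) = x := fun x => LinearMap.congr_fun hσ x
  let Qb : Matrix (Fin m) (Fin m) A := Matrix.of fun i j => σ (fb i) j
  have hQ2 : Qb * Qb = Qb := by
    ext i l
    have h1 : σ (π₀ (σ (fb i))) l = σ (fb i) l := by rw [hπσ]
    rw [Fintype.linearCombination_apply, map_sum] at h1
    simp only [map_smul, Finset.sum_apply, Pi.smul_apply, smul_eq_mul] at h1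
    simpa [Matrix.mul_apply, Qb] using h1
  choose Qt hQt using fun i j => Ideal.Quotient.mk_surjective (I := I) (Qb i j)
  -- `Q f = (1 + b) f` and `Q - Q Q = e f`
  have hb : ∀ i, ∃ b : Fin m → MvPolynomial (Fin n) R, (∀ l, b l ∈ I) ∧
      ∑ l, b l * f l = ∑ j, Qt i j * f j - f i := by
    intro i
    have hmem : ∑ j, Qt i j * f j - f i ∈ I ^ 2 := by
      have h1 : π₀ (fun j => mkI (Qt i j)) = fb i := by
        rw [show (fun j => mkI (Qt i j)) = σ (fb i) from funext fun j => hQt i j, hπσ]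
      rw [hπ₀] at h1
      exact (Ideal.toCotangent_eq I).1 h1
    rw [sq, ← smul_eq_mul] at hmem
    nth_rewrite 2 [← hf] at hmem
    obtain ⟨b, hb, hbe⟩ := (Submodule.mem_ideal_smul_span_iff_exists_sum _ f _).1 hmem
    rw [Finsupp.sum_fintype _ _ (fun l => zero_smul _ (f l))] at hbe
    exact ⟨b, hb, by simpa only [smul_eq_mul] using hbe⟩
  choose b hbI hbf using hb
  have he : ∀ i j, ∃ e : Fin m → MvPolynomial (Fin n) R,
      ∑ l, e l * f l = Qt i j - ∑ k, Qt i k * Qt k j := by
    intro i j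
    refine Ideal.mem_span_range_iff_exists_fun.1 (hf.ge (Ideal.Quotient.eq_zero_iff_mem.1 ?_))
    rw [map_sub, map_sum]
    simp only [map_mul, hQt, sub_eq_zero]
    exact (congrFun (congrFun hQ2 i) j).symm
  choose ee hee using he
  -- the polynomial ring in the fibre coordinates
  let u : Fin m → MvPolynomial (Fin m) (MvPolynomial (Fin n) R) := fun i => X i - ∑ j, C (Qt i j) * X j
  let g : Fin m → MvPolynomial (Fin m) (MvPolynomial (Fin n) R) := fun i => C (f i) + u i
  let M : Matrix (Fin m) (Fin m) (MvPolynomial (Fin m) (MvPolynomial (Fin n) R)) := Matrix.of fun i l =>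
    (if i = l then 1 else 0) + C (b i l) + ∑ j, C (ee i j l) * X j
  have hMf : ∀ i, ∑ l, M i l * C (f l) = ∑ j, C (Qt i j) * g j := by
    intro i
    have h1 : ∑ l, (∑ j, C (ee i j l) * X j) * C (f l) =
        ∑ j, C (Qt i j - ∑ k, Qt i k * Qt k j) * (X j : MvPolynomial (Fin m) (MvPolynomial (Fin n) R)) := by
      simp only [Finset.sum_mul]
      rw [Finset.sum_comm]
      refine Finset.sum_congr rfl fun j _ => ?_
      rw [← hee i j, map_sum, Finset.sum_mul]
      refine Finset.sum_congr rfl fun l _ => ?_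
      rw [map_mul]; ring
    have h2 : ∑ l, C (b i l) * C (f l) =
        (∑ j, C (Qt i j) * C (f j) - C (f i) : MvPolynomial (Fin m) (MvPolynomial (Fin n) R)) := by
      simp only [← map_mul, ← map_sum, ← map_sub, hbf]
    simp only [M, Matrix.of_apply, add_mul, Finset.sum_add_distrib, h1, h2, ite_mul, one_mul, zero_mul,
      Finset.sum_ite_eq, Finset.mem_univ, if_true]
    simp only [g, u, mul_add, mul_sub, Finset.sum_add_distrib, Finset.sum_sub_distrib, map_sub, map_sum, map_mul,
      sub_mul, Finset.sum_mul, Finset.mul_sum]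
    rw [Finset.sum_comm (f := fun j k => C (Qt i k) * C (Qt k j) * X j)]
    simp only [mul_assoc]
    ring
  have hdet : ∀ l, M.det * C (f l) ∈ Ideal.span (Set.range g) := by
    intro l
    have h1 : (Matrix.adjugate M).mulVec (M.mulVec fun l => C (f l)) = M.det • fun l => C (f l) := by
      rw [Matrix.mulVec_mulVec, Matrix.adjugate_mul, Matrix.smul_mulVec, Matrix.one_mulVec]
    have h2 := congrFun h1 l
    rw [Pi.smul_apply, smul_eq_mul] at h2
    rw [← h2]
    show ∑ i, Matrix.adjugate M l i * (∑ l, M i l * (C (f l) : MvPolynomial (Fin m) (MvPolynomial (Fin n) R))) ∈ _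
    refine Ideal.sum_mem _ fun i _ => Ideal.mul_mem_left _ _ ?_
    show ∑ l, M i l * (C (f l) : MvPolynomial (Fin m) (MvPolynomial (Fin n) R)) ∈ _
    rw [hMf]
    exact Ideal.sum_mem _ fun j _ => Ideal.mul_mem_left _ _ (Ideal.subset_span ⟨j, rfl⟩)
  -- the symmetric algebra
  let π' : MvPolynomial (Fin m) (MvPolynomial (Fin n) R) →ₐ[R] SymAlg Qb :=
    (Ideal.Quotient.mkₐ R (relIdeal Qb)).comp (MvPolynomial.mapAlgHom (Ideal.Quotient.mkₐ R I))
  have hπ'surj : Function.Surjective π' :=
    Ideal.Quotient.mk_surjective.comp (MvPolynomial.map_surjective _ Ideal.Quotient.mk_surjective)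
  have hmapu : ∀ i, MvPolynomial.map mkI (u i) = X i - ∑ j, C (Qb i j) * X j := by
    intro i
    simp only [u, map_sub, map_sum, map_mul, MvPolynomial.map_X, MvPolynomial.map_C, mkI, hQt]
  have hπ'g : ∀ i, π' (g i) = 0 := by
    intro i
    refine Ideal.Quotient.eq_zero_iff_mem.2 ?_
    show MvPolynomial.map mkI (g i) ∈ relIdeal Qb
    rw [show g i = C (f i) + u i from rfl, map_add, MvPolynomial.map_C,
      show mkI (f i) = 0 from Ideal.Quotient.eq_zero_iff_mem.2 (hfI i), map_zero, zero_add, hmapu]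
    exact Ideal.subset_span ⟨i, rfl⟩
  have hkills : ∀ w, π' w = 0 → M.det * w ∈ Ideal.span (Set.range g) := by
    intro w hw
    have h1 : w ∈ Ideal.span (Set.range u) ⊔ Ideal.span (Set.range fun l => C (f l)) := by
      have h2 : MvPolynomial.map mkI w ∈ (Ideal.span (Set.range u)).map (MvPolynomial.map mkI) := by
        rw [Ideal.map_span, ← Set.range_comp,
          show (MvPolynomial.map mkI) ∘ u = fun i => X i - ∑ j, C (Qb i j) * X j from funext hmapu]
        exact Ideal.Quotient.eq_zero_iff_mem.1 hw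
      rw [← Ideal.mem_comap, Ideal.comap_map_of_surjective _
        (MvPolynomial.map_surjective (σ := Fin m) mkI Ideal.Quotient.mk_surjective), ← RingHom.ker_eq_comap_bot,
        MvPolynomial.ker_map, Ideal.mk_ker, ← hf, Ideal.map_span, ← Set.range_comp] at h2
      exact h2
    obtain ⟨v, hv, v', hv', rfl⟩ := Submodule.mem_sup.1 h1
    have hfl : ∀ x ∈ Ideal.span (Set.range fun l => (C (f l) : MvPolynomial (Fin m) (MvPolynomial (Fin n) R))),
        M.det * x ∈ Ideal.span (Set.range g) := by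
      intro x hx
      obtain ⟨c, rfl⟩ := Ideal.mem_span_range_iff_exists_fun.1 hx
      rw [Finset.mul_sum]
      exact Ideal.sum_mem _ fun l _ => by rw [mul_left_comm]; exact Ideal.mul_mem_left _ _ (hdet l)
    rw [mul_add]
    refine add_mem ?_ (hfl _ hv')
    obtain ⟨c, rfl⟩ := Ideal.mem_span_range_iff_exists_fun.1 hv
    rw [Finset.mul_sum]
    refine Ideal.sum_mem _ fun l _ => ?_
    rw [mul_left_comm, show u l = g l - C (f l) from (add_sub_cancel_left _ _).symm, mul_sub]
    exact Ideal.mul_mem_left _ _ (sub_mem (Ideal.mul_mem_left _ _ (Ideal.subset_span ⟨l, rfl⟩)) (hdet l))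
  let ρ : SymAlg Qb →ₐ[A] A := Ideal.Quotient.liftₐ _ (aeval fun _ => 0) (by
    intro z hz
    refine RingHom.mem_ker.1 ((Ideal.span_le (I := RingHom.ker (aeval fun _ : Fin m => (0 : A)))).2 ?_ hz)
    rintro _ ⟨i, rfl⟩
    simp)
  have hρdet : ρ (π' M.det) = 1 := by
    let θ : MvPolynomial (Fin m) (MvPolynomial (Fin n) R) →+* A :=
      (aeval fun _ : Fin m => (0 : A)).toRingHom.comp (MvPolynomial.map mkI)
    show θ M.det = 1
    have hθC : ∀ x, θ (C x) = mkI x := fun x => by simp [θ]
    have hθX : ∀ j, θ (X j) = 0 := fun j => by simp [θ]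
    rw [RingHom.map_det, ← Matrix.det_one (n := Fin m) (R := A)]
    congr 1
    ext i l
    simp [M, hθC, hθX, Matrix.one_apply, apply_ite θ,
      show ∀ i l, mkI (b i l) = 0 from fun i l => Ideal.Quotient.eq_zero_iff_mem.2 (hbI i l)]
  let E : MvPolynomial (Fin m) (MvPolynomial (Fin n) R) ≃ₐ[R] MvPolynomial (Fin (m + n)) R :=
    (MvPolynomial.sumAlgEquiv R (Fin m) (Fin n)).symm.trans (MvPolynomial.renameEquiv R finSumFinEquiv)
  haveI := smooth_symAlg Qb hQ2
  refine ⟨m, SymAlg Qb, inferInstance, inferInstance, inferInstance, inferInstance, inferInstance, ρ,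
    π'.comp E.symm.toAlgHom, fun i => E (g i), E M.det, hπ'surj.comp E.symm.surjective, fun i => ?_, fun w hw => ?_,
    ?_, fun P => ?_⟩
  · show π' (E.symm (E (g i))) = 0
    rw [AlgEquiv.symm_apply_apply, hπ'g]
  · have h1 := Ideal.mem_map_of_mem E.toRingEquiv.toRingHom (hkills (E.symm w) hw)
    rw [Ideal.map_span, ← Set.range_comp] at h1
    have h2 : E.toRingEquiv.toRingHom (M.det * E.symm w) = E M.det * w := by
      show E (M.det * E.symm w) = _
      rw [map_mul, AlgEquiv.apply_symm_apply]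
    rw [h2] at h1
    exact h1
  · show ρ (π' (E.symm (E M.det))) = 1
    rw [AlgEquiv.symm_apply_apply, hρdet]
  -- the dimension bound
  let qA : PrimeSpectrum A := PrimeSpectrum.comap (algebraMap A (SymAlg Qb)) P
  obtain ⟨rs, G, hG, hrsI, hgen, hlen⟩ := exists_generators hI hS qA
  refine (trd_le_add (S := A) P).trans ?_
  have hrs : ∀ s : Fin rs.length, rs.get s ∈ I := fun s => hrsI (Ideal.subset_span (List.get_mem rs s))
  let y : Fin m → SymAlg Qb := fun j => Ideal.Quotient.mk (relIdeal Qb) (X j)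
  let z : Fin rs.length → SymAlg Qb := fun s => ∑ j, σ (I.toCotangent ⟨rs.get s, hrs s⟩) j • y j
  have hy : Algebra.adjoin A (Set.range y) = ⊤ := by
    rw [Algebra.adjoin_range_eq_range_aeval, AlgHom.range_eq_top]
    rw [show (aeval y : MvPolynomial (Fin m) A →ₐ[A] SymAlg Qb) = Ideal.Quotient.mkₐ A (relIdeal Qb) from
      MvPolynomial.algHom_ext fun j => by simp [y]]
    exact Ideal.Quotient.mkₐ_surjective A _
  have hrel : ∀ i, y i = ∑ j, Qb i j • y j := by
    intro i
    have h1 : Ideal.Quotient.mk (relIdeal Qb) (X i - ∑ j, C (Qb i j) * X j) = 0 :=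
      Ideal.Quotient.eq_zero_iff_mem.2 (Ideal.subset_span ⟨i, rfl⟩)
    rw [map_sub, sub_eq_zero, map_sum] at h1
    refine h1.trans (Finset.sum_congr rfl fun j _ => ?_)
    rw [map_mul]
    exact (Algebra.smul_def (Qb i j) (y j)).symm
  have hGy : ∀ i, algebraMap A (SymAlg Qb) (mkI G) * y i ∈ Algebra.adjoin A (Set.range z) := by
    intro i
    have h1 : G * f i ∈ Ideal.span (Set.range rs.get) := by
      rw [Set.range_list_get]; exact hgen _ (hfI i)
    obtain ⟨c, hc⟩ := Ideal.mem_span_range_iff_exists_fun.1 h1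
    have h2 : mkI G • fb i = ∑ s, mkI (c s) • I.toCotangent ⟨rs.get s, hrs s⟩ := by
      have h3 : G • (⟨f i, hfI i⟩ : I) = ∑ s, c s • (⟨rs.get s, hrs s⟩ : I) :=
        Subtype.ext (by simp only [Submodule.coe_sum, Submodule.coe_smul, smul_eq_mul, hc])
      have h4 := congrArg I.toCotangent h3
      simp only [map_smul, map_sum] at h4
      show algebraMap _ A G • _ = ∑ s, algebraMap _ A (c s) • _
      simpa only [algebraMap_smul] using h4
    have h5 : ∀ j, mkI G * Qb i j = ∑ s, mkI (c s) * σ (I.toCotangent ⟨rs.get s, hrs s⟩) j := fun j => by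
      have := congrFun (congrArg σ h2) j
      simp only [map_smul, map_sum, Finset.sum_apply, Pi.smul_apply, smul_eq_mul] at this
      exact this
    rw [← Algebra.smul_def, hrel i, Finset.smul_sum]
    rw [Finset.sum_congr rfl fun j _ => show mkI G • Qb i j • y j =
      ∑ s, (mkI (c s) * σ (I.toCotangent ⟨rs.get s, hrs s⟩) j) • y j by
        exact (smul_smul (mkI G) (Qb i j) (y j)).trans ((congrArg (· • y j) (h5 j)).trans Finset.sum_smul)]
    rw [Finset.sum_comm]
    simp only [← smul_smul, ← Finset.smul_sum]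
    exact Subalgebra.sum_mem _ fun s _ => Subalgebra.smul_mem _ (Algebra.subset_adjoin (show z s ∈ Set.range z from ⟨s, rfl⟩)) _
  have := trd_le_of_span y hy z (mkI G) hGy P hG
  show trd R qA + trd A P ≤ n
  omega

/-- A syntomic algebra is a retract of a relative global complete intersection smooth over it. -/
theorem exists_retract {A : Type u} [CommRing A] [Algebra R A] (h : Synt.IsSyntomic R A) :
    ∃ (n c : ℕ) (F : Fin c → MvPolynomial (Fin n) R), Synt.IsRelGCI R n c F ∧
      Module.Flat R (Synt.RelGCIRing R n c F) ∧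
      ∃ (_ : Algebra A (Synt.RelGCIRing R n c F)) (_ : IsScalarTower R A (Synt.RelGCIRing R n c F)),
        Algebra.Smooth A (Synt.RelGCIRing R n c F) ∧
        ∃ ρ : Synt.RelGCIRing R n c F →ₐ[R] A, ∀ a : A, ρ (algebraMap A (Synt.RelGCIRing R n c F) a) = a := by
  haveI := h.2.1
  obtain ⟨n, p, hp, hpI⟩ := Algebra.FinitePresentation.out (R := R) (A := A)
  let I : Ideal (MvPolynomial (Fin n) R) := RingHom.ker p.toRingHom
  let ε : (MvPolynomial (Fin n) R ⧸ I) ≃ₐ[R] A := Ideal.quotientKerAlgEquivOfSurjective hp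
  obtain ⟨m, C', _, _, _, _, hsm, ρ, π, F, hh, hπ, hF, hkills, hρ, htrd⟩ :=
    exists_data I hpI (Synt15.isSyntomic_congr ε.symm h)
  let T := Synt.RelGCIRing R (m + n) m F
  let πT : T →ₐ[R] C' := Ideal.Quotient.liftₐ _ π fun a ha => by
    refine (Ideal.span_le (I := RingHom.ker π)).2 ?_ ha
    rintro _ ⟨i, rfl⟩
    exact hF i
  have hπT : Function.Surjective πT := fun c => by
    obtain ⟨w, rfl⟩ := hπ c
    exact ⟨Ideal.Quotient.mk _ w, rfl⟩
  let a : T := Ideal.Quotient.mk _ hh
  have ha : ∀ z, πT z = 0 → a * z = 0 := fun z hz => by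
    obtain ⟨w, rfl⟩ := Ideal.Quotient.mk_surjective z
    rw [show a * Ideal.Quotient.mk (Ideal.span (Set.range F)) w = Ideal.Quotient.mk _ (hh * w) from (map_mul _ _ _).symm]
    exact Ideal.Quotient.eq_zero_iff_mem.2 (hkills w hz)
  have hgci : Synt.IsRelGCI R (m + n + 1) (m + 1) (Synt15.awayRel F hh) :=
    Synt15.isRelGCI_away hh fun q hq => by
      refine ⟨Nat.le_add_right m n, ?_⟩
      have hker : RingHom.ker πT.toRingHom ≤ q.asIdeal := fun z hz =>
        (q.2.mem_or_mem (show a * z ∈ q.asIdeal by rw [ha z hz]; exact zero_mem _)).resolve_left hq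
      let q' : PrimeSpectrum C' := ⟨q.asIdeal.map πT.toRingHom, Ideal.map_isPrime_of_surjective hπT hker⟩
      have hq' : PrimeSpectrum.comap πT.toRingHom q' = q := PrimeSpectrum.ext (by
        show (q.asIdeal.map πT.toRingHom).comap πT.toRingHom = q.asIdeal
        rw [Ideal.comap_map_of_surjective πT.toRingHom hπT, ← RingHom.ker_eq_comap_bot, sup_eq_left.2 hker])
      rw [← hq', trd_comap_of_surjectiveOnStalks πT (RingHom.surjectiveOnStalks_of_surjective hπT) q',
        Nat.add_sub_cancel_left]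
      exact htrd q'
  obtain ⟨e₁⟩ := Synt15.exists_awayEquiv_of_kills' πT hπT a ha
  obtain ⟨e₂⟩ := Synt15.exists_awayEquiv F hh
  let e : Localization.Away (πT a) ≃ₐ[R] Synt.RelGCIRing R (m + n + 1) (m + 1) (Synt15.awayRel F hh) := e₁.symm.trans e₂
  let C'' := Localization.Away (πT a)
  let P₀ := MvPolynomial (Fin n) R ⧸ I
  let ι : A →ₐ[R] C'' := (IsScalarTower.toAlgHom R P₀ C'').comp ε.symm.toAlgHom
  letI alg : Algebra A (Synt.RelGCIRing R (m + n + 1) (m + 1) (Synt15.awayRel F hh)) :=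
    (e.toAlgHom.comp ι).toRingHom.toAlgebra
  haveI tow : IsScalarTower R A (Synt.RelGCIRing R (m + n + 1) (m + 1) (Synt15.awayRel F hh)) :=
    IsScalarTower.of_algebraMap_eq fun r => ((e.toAlgHom.comp ι).commutes r).symm
  refine ⟨_, _, _, hgci, Synt15.flat_relGCI hgci, alg, tow, ?_, ?_⟩
  · letI : Algebra A C'' := ι.toRingHom.toAlgebra
    letI : Algebra A P₀ := ε.symm.toAlgHom.toRingHom.toAlgebra
    haveI : IsScalarTower A P₀ C'' := IsScalarTower.of_algebraMap_eq fun _ => rfl
    haveI : Algebra.Smooth A P₀ :=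
      Algebra.Smooth.of_equiv (AlgEquiv.ofRingEquiv (f := ε.symm.toRingEquiv) fun _ => rfl : A ≃ₐ[A] P₀)
    haveI := hsm
    haveI : Algebra.Smooth P₀ C'' := Algebra.Smooth.comp P₀ C' C''
    haveI : Algebra.Smooth A C'' := Algebra.Smooth.comp A P₀ C''
    exact Algebra.Smooth.of_equiv (AlgEquiv.ofRingEquiv (f := e.toRingEquiv) fun _ => rfl :
      C'' ≃ₐ[A] Synt.RelGCIRing R (m + n + 1) (m + 1) (Synt15.awayRel F hh))
  · let ρ' : C'' →ₐ[P₀] P₀ := IsLocalization.liftAlgHom (M := Submonoid.powers (πT a)) (f := ρ) (by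
      rintro ⟨_, k, rfl⟩
      show IsUnit (ρ (πT a ^ k))
      rw [map_pow, show πT a = π hh from rfl, hρ, one_pow]
      exact isUnit_one)
    refine ⟨(ε.toAlgHom.comp (ρ'.restrictScalars R)).comp e.symm.toAlgHom, fun x => ?_⟩
    show ε (ρ' (e.symm (e (algebraMap P₀ C'' (ε.symm x))))) = x
    rw [AlgEquiv.symm_apply_apply, ρ'.commutes]
    exact ε.apply_symm_apply x

end Groth.Agent.SyntRetractH2
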