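import Groth.Agent.Synt15.Conormal
import Groth.Agent.Synt15.PolyDim
import Groth.Agent.Synt15.RelDim

/-! Local number of equations of a syntomic algebra against its fibre dimension. -/

set_option autoImplicit false


universe u

open MvPolynomial TensorProduct RingTheory.Sequence Groth.Agent.EGA43.FibDepth

noncomputable section

namespace Groth.Agent.SyntRetractH2

attribute [local instance] CommAlg6.isLocalRing_fibLocRing Algebra.TensorProduct.rightAlgebra

theorem length_le_ringKrullDim {L : Type u} [CommRing L] [IsLocalRing L] [IsNoetherianRing L] {rs : List L}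
    (h : IsRegular L rs) : (rs.length : WithBot ℕ∞) ≤ ringKrullDim L := by
  have hne : Ideal.ofList rs ≠ ⊤ := fun he => h.2 (by rw [he, Submodule.top_smul])
  haveI : Nontrivial (L ⧸ Ideal.ofList rs) := Ideal.Quotient.nontrivial_iff.2 hne
  rw [← ringKrullDim_add_length_eq_ringKrullDim_of_isRegular rs h]
  exact le_add_of_nonneg_left ringKrullDim_nonneg_of_nontrivial

variable {R : Type u} [CommRing R] {n : ℕ}

set_option maxHeartbeats 800000 in
/-- The dimension of a fibre local ring of `R[x]`. -/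
theorem exists_fibDim (Q : PrimeSpectrum (MvPolynomial (Fin n) R)) :
    ∃ h : ℕ, ringKrullDim (EGA4.FibLocRing R (MvPolynomial (Fin n) R) Q.asIdeal) = (h : WithBot ℕ∞) ∧
      h + trd R Q = n := by
  let a := Q.asIdeal.comap (algebraMap R (MvPolynomial (Fin n) R))
  obtain ⟨Q', hQ'⟩ := exists_prime_over (A := R) (p := a) (a.Fiber (MvPolynomial (Fin n) R)) Q rfl
  obtain ⟨-, ⟨e₁⟩⟩ := CommAlg6.fiber_localization_equiv a Q'.asIdeal
  obtain ⟨e₂⟩ := CommAlg6.fibLocRing_congr (A := R)
    (Q'.asIdeal.comap (Algebra.TensorProduct.includeRight : MvPolynomial (Fin n) R →ₐ[R] _)) Q.asIdeal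
    (congrArg PrimeSpectrum.asIdeal hQ')
  let E : a.Fiber (MvPolynomial (Fin n) R) ≃+* MvPolynomial (Fin n) a.ResidueField :=
    (MvPolynomial.algebraTensorAlgEquiv R a.ResidueField).toRingEquiv
  let qb : Ideal (MvPolynomial (Fin n) a.ResidueField) := Q'.asIdeal.comap E.symm.toRingHom
  haveI : qb.IsPrime := Ideal.IsPrime.comap _
  obtain ⟨h, d, hh, hd, hhd⟩ := Synt15.exists_height_dim qb
  refine ⟨h, ?_, ?_⟩
  · rw [← ringKrullDim_eq_of_ringEquiv (e₁.trans e₂),
      IsLocalization.AtPrime.ringKrullDim_eq_height Q'.asIdeal (Localization.AtPrime Q'.asIdeal)]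
    rw [show Q'.asIdeal.height = (h : ℕ∞) from (RingEquiv.height_comap E.symm Q'.asIdeal).symm.trans hh]
    rfl
  have hsur : Function.Surjective ((Ideal.Quotient.mk Q'.asIdeal).comp E.symm.toRingHom) :=
    Ideal.Quotient.mk_surjective.comp E.symm.surjective
  have hker : RingHom.ker ((Ideal.Quotient.mk Q'.asIdeal).comp E.symm.toRingHom) = qb := by
    rw [← RingHom.comap_ker, Ideal.mk_ker]
  have hd' : ringKrullDim (a.Fiber (MvPolynomial (Fin n) R) ⧸ Q'.asIdeal) = (d : WithBot ℕ∞) := by
    rw [← hd]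
    exact (ringKrullDim_eq_of_ringEquiv ((Ideal.quotEquivOfEq hker.symm).trans
      (RingHom.quotientKerEquivOfSurjective hsur))).symm
  have h2 := ringKrullDim_quotient_eq_trd (R := MvPolynomial (Fin n) R) a Q'
  rw [hQ', hd'] at h2
  have h3 : d = trd R Q := by exact_mod_cast h2
  omega

set_option maxHeartbeats 800000 in
/-- Near a point, a syntomic quotient of `R[x]` is cut out by at most `n - trd` equations. -/
theorem exists_generators {I : Ideal (MvPolynomial (Fin n) R)} (hI : I.FG)
    (hS : Synt.IsSyntomic R (MvPolynomial (Fin n) R ⧸ I)) (q : PrimeSpectrum (MvPolynomial (Fin n) R ⧸ I)) :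
    ∃ (rs : List (MvPolynomial (Fin n) R)) (G : MvPolynomial (Fin n) R), Ideal.Quotient.mk I G ∉ q.asIdeal ∧
      Ideal.ofList rs ≤ I ∧ (∀ x ∈ I, G * x ∈ Ideal.ofList rs) ∧ rs.length + trd R q ≤ n := by
  haveI := hS.1
  let π : MvPolynomial (Fin n) R →ₐ[R] MvPolynomial (Fin n) R ⧸ I := Ideal.Quotient.mkₐ R I
  obtain ⟨φ, hφ, hφk⟩ := CAlgH.CIOpen.exists_fib_surjection π Ideal.Quotient.mk_surjective q.asIdeal
  haveI := CAlgH.CIOpen.isRegularLocalRing_fib_mvPolynomial (R := R) n (q.asIdeal.comap π.toRingHom)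
  haveI := isNoetherianRing_of_surjective _ _ φ hφ
  have hreg := hφk ▸ (CAlgH.CIPresentation.isCompleteIntersection_iff φ hφ).1
    (Synt15.ci_fibre_of_isSyntomic hS q.asIdeal)
  set Q := q.asIdeal.comap π.toRingHom with hQ
  have hIQ : I ≤ Q := fun x hx => by
    show Ideal.Quotient.mk I x ∈ q.asIdeal
    rw [Ideal.Quotient.eq_zero_iff_mem.2 hx]; exact zero_mem _
  obtain ⟨rs, G, hG, hrsI, hgen, hcolon, hflat⟩ := CAlgH.CIOpen.exists_regular_generators I hI Q (by
    rwa [show RingHom.ker π.toRingHom = I from Ideal.mk_ker] at hreg)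
  refine ⟨rs, G, hG, hrsI, hgen, ?_⟩
  -- a regular sequence in the fibre local ring
  let L := Localization.AtPrime Q
  let a := Q.comap (algebraMap R (MvPolynomial (Fin n) R))
  let rs' := rs.map (algebraMap _ L)
  have hw : IsWeaklyRegular L rs' := CAlgH.CIOpen.isWeaklyRegular_localization Q.primeCompl hG hcolon
  have hfl : ∀ i ≤ rs'.length, Module.Flat R (L ⧸ Ideal.ofList (rs'.take i)) := fun i hi => by
    rw [← List.map_take, ← Ideal.map_ofList]
    exact CAlgH.CIOpen.flat_quotient_localization Q _ (hflat i (by simpa [rs'] using hi) Q hG)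
  have hwf : IsWeaklyRegular (EGA4.FibLocRing R (MvPolynomial (Fin n) R) Q)
      (rs'.map (Ideal.Quotient.mk (a.map (algebraMap R L)))) :=
    CAlgH.CIOpen.isWeaklyRegular_fibre a hw hfl
  have hr : IsRegular (EGA4.FibLocRing R (MvPolynomial (Fin n) R) Q)
      (rs'.map (Ideal.Quotient.mk (a.map (algebraMap R L)))) := by
    refine ⟨hwf, ?_⟩
    rw [smul_eq_mul, Ideal.mul_top, ← Ideal.map_ofList, ← Ideal.map_ofList]
    intro h
    have hle : (Ideal.ofList rs).map (algebraMap _ L) ≤ IsLocalRing.maximalIdeal L := by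
      rw [← Localization.AtPrime.map_eq_maximalIdeal]
      exact Ideal.map_mono (hrsI.trans hIQ)
    refine IsLocalRing.maximalIdeal.isMaximal (EGA4.FibLocRing R (MvPolynomial (Fin n) R) Q) |>.ne_top
      (top_le_iff.1 (h.le.trans ((Ideal.map_mono hle).trans ?_)))
    refine IsLocalRing.le_maximalIdeal fun htop => ?_
    have h1 := (Ideal.eq_top_iff_one _).1 htop
    rw [Ideal.mem_map_iff_of_surjective _ Ideal.Quotient.mk_surjective] at h1
    obtain ⟨y, hy, hy1⟩ := h1
    rw [← map_one (Ideal.Quotient.mk (a.map (algebraMap R L))), Ideal.Quotient.eq] at hy1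
    have ha : a.map (algebraMap R L) ≤ IsLocalRing.maximalIdeal L := by
      rw [IsScalarTower.algebraMap_eq R (MvPolynomial (Fin n) R) L, ← Ideal.map_map,
        ← Localization.AtPrime.map_eq_maximalIdeal]
      exact Ideal.map_mono Ideal.map_comap_le
    exact (IsLocalRing.maximalIdeal.isMaximal L).ne_top ((Ideal.eq_top_iff_one _).2 (by
      simpa using sub_mem hy (ha hy1)))
  have hlen := length_le_ringKrullDim hr
  simp only [List.length_map, rs'] at hlen
  obtain ⟨h, hh, hhd⟩ := exists_fibDim ⟨Q, inferInstance⟩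
  have h4 : trd R (⟨Q, inferInstance⟩ : PrimeSpectrum (MvPolynomial (Fin n) R)) = trd R q :=
    trd_comap_of_surjectiveOnStalks π (RingHom.surjectiveOnStalks_of_surjective Ideal.Quotient.mk_surjective) q
  rw [hh] at hlen
  have h5 : rs.length ≤ h := by exact_mod_cast hlen
  omega

theorem toNat_add_le (a b : Cardinal.{u}) : Cardinal.toNat (a + b) ≤ Cardinal.toNat a + Cardinal.toNat b := by
  rcases lt_or_ge a Cardinal.aleph0 with ha | ha
  · rcases lt_or_ge b Cardinal.aleph0 with hb | hb
    · exact (Cardinal.toNat_add ha hb).le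
    · rw [Cardinal.toNat_apply_of_aleph0_le (hb.trans le_add_self)]; exact Nat.zero_le _
  · rw [Cardinal.toNat_apply_of_aleph0_le (ha.trans le_self_add)]; exact Nat.zero_le _

/-- Transcendence degrees in a tower. -/
theorem trd_le_add {A S T : Type u} [CommRing A] [CommRing S] [CommRing T] [Algebra A S] [Algebra A T] [Algebra S T]
    [IsScalarTower A S T] (P : PrimeSpectrum T) :
    trd A P ≤ trd A (PrimeSpectrum.comap (algebraMap S T) P) + trd S P := by
  let q := PrimeSpectrum.comap (algebraMap S T) P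
  have hp : q.asIdeal.comap (algebraMap A S) = P.asIdeal.comap (algebraMap A T) := by
    show (P.asIdeal.comap (algebraMap S T)).comap (algebraMap A S) = _
    rw [Ideal.comap_comap, ← IsScalarTower.algebraMap_eq]
  let φ := Ideal.ResidueField.map (q.asIdeal.comap (algebraMap A S)) q.asIdeal (algebraMap A S) rfl
  let ψ := Ideal.ResidueField.map q.asIdeal P.asIdeal (algebraMap S T) rfl
  have hcomp : Ideal.ResidueField.map (q.asIdeal.comap (algebraMap A S)) P.asIdeal (algebraMap A T) hp =
      ψ.comp φ := by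
    refine Ideal.ResidueField.ringHom_ext (RingHom.ext fun a => ?_)
    simp only [RingHom.comp_apply, φ, ψ, Ideal.ResidueField.map_algebraMap, IsScalarTower.algebraMap_apply A S T]
  rw [trd_eq_trdegHom P hp, hcomp, trd_eq_trdegHom q (rfl : q.asIdeal.comap (algebraMap A S) = _),
    trd_eq_trdegHom P (rfl : q.asIdeal = _)]
  letI := φ.toAlgebra
  letI := ψ.toAlgebra
  letI := (ψ.comp φ).toAlgebra
  haveI : IsScalarTower (q.asIdeal.comap (algebraMap A S)).ResidueField q.asIdeal.ResidueField P.asIdeal.ResidueField :=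
    IsScalarTower.of_algebraMap_eq' rfl
  have h := trdeg_add_eq (q.asIdeal.comap (algebraMap A S)).ResidueField q.asIdeal.ResidueField
    (A := P.asIdeal.ResidueField)
  show Cardinal.toNat _ ≤ Cardinal.toNat _ + Cardinal.toNat _
  rw [← h]
  exact toNat_add_le _ _

/-- A bound on transcendence degrees from linear dependence near a point. -/
theorem trd_le_of_span {A S : Type u} [CommRing A] [CommRing S] [Algebra A S] {m r : ℕ}
    (y : Fin m → S) (hy : Algebra.adjoin A (Set.range y) = ⊤) (z : Fin r → S) (G : A)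
    (hG : ∀ i, algebraMap A S G * y i ∈ Algebra.adjoin A (Set.range z))
    (P : PrimeSpectrum S) (hP : algebraMap A S G ∉ P.asIdeal) : trd A P ≤ r := by
  let g := algebraMap A S G
  let S' := Localization.Away g
  let θ : MvPolynomial (Fin r) A →ₐ[A] S := MvPolynomial.aeval z
  let B' := Localization.Away (MvPolynomial.C G : MvPolynomial (Fin r) A)
  have hθG : θ (MvPolynomial.C G) = g := θ.commutes G
  let Θ : B' →ₐ[A] S' := IsLocalization.liftAlgHom (M := Submonoid.powers (MvPolynomial.C G : MvPolynomial (Fin r) A))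
    (f := (IsScalarTower.toAlgHom A S S').comp θ) (by
      rintro ⟨_, k, rfl⟩
      show IsUnit (algebraMap S S' (θ (MvPolynomial.C G ^ k)))
      rw [map_pow, hθG, map_pow]
      exact (IsLocalization.Away.algebraMap_isUnit g).pow k)
  have hΘ : ∀ x, Θ (algebraMap _ B' x) = algebraMap S S' (θ x) := fun x => by
    simp [Θ]
  have hinv : ∃ w, Θ w * algebraMap S S' g = 1 := by
    refine ⟨IsLocalization.mk' B' (1 : MvPolynomial (Fin r) A)
      (⟨MvPolynomial.C G, Submonoid.mem_powers _⟩ : Submonoid.powers (MvPolynomial.C G : MvPolynomial (Fin r) A)), ?_⟩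
    rw [show algebraMap S S' g = Θ (algebraMap _ B' (MvPolynomial.C G)) from ((hΘ _).trans (congrArg _ hθG)).symm,
      ← map_mul, IsLocalization.mk'_spec, map_one, map_one]
  obtain ⟨w, hw⟩ := hinv
  have hyrange : ∀ i, algebraMap S S' (y i) ∈ Θ.range := fun i => by
    have h := hG i
    rw [Algebra.adjoin_range_eq_range_aeval] at h
    obtain ⟨p, hp⟩ := h
    refine ⟨w * algebraMap _ B' p, ?_⟩
    show Θ (w * algebraMap _ B' p) = _
    rw [map_mul, hΘ, show θ p = g * y i from hp, map_mul, ← mul_assoc, hw, one_mul]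
  have hle : ∀ x : S, algebraMap S S' x ∈ Θ.range := fun x => by
    have hx : x ∈ Algebra.adjoin A (Set.range y) := hy ▸ Algebra.mem_top
    have h2 : Algebra.adjoin A (Set.range y) ≤ Θ.range.comap (IsScalarTower.toAlgHom A S S') :=
      Algebra.adjoin_le (by rintro _ ⟨i, rfl⟩; exact hyrange i)
    exact h2 hx
  have hsurj : Function.Surjective Θ := fun v => by
    obtain ⟨x, ⟨_, k, rfl⟩, rfl⟩ := IsLocalization.exists_mk'_eq (Submonoid.powers g) v
    obtain ⟨b, hb⟩ := hle x
    refine ⟨b * w ^ k, ?_⟩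
    rw [map_mul, map_pow, show Θ b = algebraMap S S' x from hb]
    symm
    rw [IsLocalization.mk'_eq_iff_eq_mul, map_pow, mul_assoc, ← mul_pow, hw, one_pow, mul_one]
  have hdisj : Disjoint (↑(Submonoid.powers g) : Set S) ↑P.asIdeal := by
    rw [Set.disjoint_left]
    rintro _ ⟨k, rfl⟩ h
    exact hP (P.2.mem_of_pow_mem k h)
  let P' : PrimeSpectrum S' :=
    ⟨P.asIdeal.map (algebraMap S S'), IsLocalization.isPrime_of_isPrime_disjoint _ S' _ P.2 hdisj⟩
  have hP' : PrimeSpectrum.comap (IsScalarTower.toAlgHom A S S').toRingHom P' = P :=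
    PrimeSpectrum.ext (IsLocalization.comap_map_of_isPrime_disjoint _ S' P.2 hdisj)
  rw [← hP', trd_comap_of_surjectiveOnStalks (IsScalarTower.toAlgHom A S S')
      (RingHom.surjectiveOnStalks_of_isLocalization (M := Submonoid.powers g) S') P',
    ← trd_comap_of_surjectiveOnStalks Θ (RingHom.surjectiveOnStalks_of_surjective (f := Θ.toRingHom) hsurj) P',
    ← trd_comap_of_surjectiveOnStalks (IsScalarTower.toAlgHom A (MvPolynomial (Fin r) A) B')
      (RingHom.surjectiveOnStalks_of_isLocalization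
        (M := Submonoid.powers (MvPolynomial.C G : MvPolynomial (Fin r) A)) B')]
  exact trd_mvPolynomial_le _

end Groth.Agent.SyntRetractH2
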